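import Mathlib
import Groth.Agent.H17.StalkComponents

/-!
# Irreducible components of a scheme with domain stalks and locally finite components

On a scheme all of whose local rings are domains and whose irreducible components are locally
finite, the irreducible components are open (and pairwise disjoint); a quasi-compact open contains
only finitely many maximal points.
-/

set_option autoImplicit false
set_option linter.style.haveILetI false
universe u

open CategoryTheory AlgebraicGeometry Topology TopologicalSpace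

namespace Groth.Agent.H68.NormNormal

variable {Y : Scheme.{u}}

/-- A point whose local ring is a domain has a least generization. -/
theorem exists_generic_of_isDomain_stalk (y : Y) [IsDomain (Y.presheaf.stalk y)] :
    ∃ ξ : Y, ∀ z : Y, z ⤳ y → ξ ⤳ z := by
  refine ⟨Y.fromSpecStalk y ⟨⊥, Ideal.isPrime_bot⟩, fun z hz => ?_⟩
  have hz' : z ∈ Set.range (Y.fromSpecStalk y) := by
    rw [Scheme.range_fromSpecStalk]; exact hz
  obtain ⟨q, rfl⟩ := hz'
  have hq : (⟨⊥, Ideal.isPrime_bot⟩ : PrimeSpectrum (Y.presheaf.stalk y)) ⤳ q :=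
    (PrimeSpectrum.le_iff_specializes _ _).mp bot_le
  exact hq.map (Y.fromSpecStalk y).continuous

/-- Two maximal points specializing to a point whose local ring is a domain are equal. -/
theorem maxPt_unique (y : Y) [IsDomain (Y.presheaf.stalk y)] {η₁ η₂ : Y}
    (h₁ : ∀ z : Y, z ⤳ η₁ → z = η₁) (h₂ : ∀ z : Y, z ⤳ η₂ → z = η₂)
    (s₁ : η₁ ⤳ y) (s₂ : η₂ ⤳ y) : η₁ = η₂ := by
  obtain ⟨ξ, hξ⟩ := exists_generic_of_isDomain_stalk y
  rw [← h₁ ξ (hξ η₁ s₁), ← h₂ ξ (hξ η₂ s₂)]

/-- Every irreducible component is the closure of a maximal point. -/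
theorem exists_maxPt_of_mem_irreducibleComponents {Z : Set Y} (hZ : Z ∈ irreducibleComponents Y) :
    ∃ η : Y, (∀ z : Y, z ⤳ η → z = η) ∧ closure {η} = Z := by
  obtain ⟨η, hη⟩ := QuasiSober.sober hZ.1 (isClosed_of_mem_irreducibleComponents Z hZ)
  have hη' : closure {η} = Z := hη
  refine ⟨η, fun z hz => ?_, hη'⟩
  exact Groth.Agent.H17.eq_of_specializes_of_mem_irreducibleComponents (hη' ▸ hZ) hz

theorem closure_maxPt_mem_irreducibleComponents {η : Y} (hη : ∀ z : Y, z ⤳ η → z = η) :
    closure {η} ∈ irreducibleComponents Y :=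
  Groth.Agent.H17.mem_irreducibleComponents_of_maximal hη

/-- The irreducible components are open. -/
theorem isOpen_closure_maxPt (hdom : ∀ y : Y, IsDomain (Y.presheaf.stalk y))
    (hfin : LocallyFinite (fun Z : ↥(irreducibleComponents ↥Y) => (Z : Set ↥Y)))
    {η : Y} (hη : ∀ z : Y, z ⤳ η → z = η) : IsOpen (closure {η} : Set Y) := by
  set Z₀ : Set Y := closure {η} with hZ₀
  have hcompl : Z₀ᶜ = ⋃ Z : {Z : ↥(irreducibleComponents ↥Y) // (Z : Set Y) ≠ Z₀}, (Z.1 : Set Y) := by
    ext y
    simp only [Set.mem_compl_iff, Set.mem_iUnion]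
    constructor
    · intro hy
      refine ⟨⟨⟨irreducibleComponent y, irreducibleComponent_mem_irreducibleComponents y⟩, ?_⟩,
        mem_irreducibleComponent⟩
      intro h
      apply hy
      rw [← h]
      exact mem_irreducibleComponent
    · rintro ⟨⟨⟨Z, hZ⟩, hne⟩, hyZ⟩ hyZ₀
      apply hne
      obtain ⟨η', hη', rfl⟩ := exists_maxPt_of_mem_irreducibleComponents hZ
      haveI := hdom y
      have : η' = η := maxPt_unique y hη' hη (specializes_iff_mem_closure.mpr hyZ)
        (specializes_iff_mem_closure.mpr hyZ₀)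
      change closure {η'} = Z₀
      rw [this]
  rw [← isClosed_compl_iff, hcompl]
  refine LocallyFinite.isClosed_iUnion (hfin.comp_injective Subtype.val_injective) ?_
  rintro ⟨⟨Z, hZ⟩, -⟩
  exact isClosed_of_mem_irreducibleComponents Z hZ

section data

variable (Y) in
/-- The maximal points of `Y` (generic points of irreducible components). -/
def MaxPt : Type u := {η : Y // ∀ z : Y, z ⤳ η → z = η}

variable (hdom : ∀ y : Y, IsDomain (Y.presheaf.stalk y))
  (hfin : LocallyFinite (fun Z : ↥(irreducibleComponents ↥Y) => (Z : Set ↥Y)))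

/-- The (open) irreducible component of a maximal point. -/
def compOpen (η : MaxPt Y) : Y.Opens := ⟨closure {η.1}, isOpen_closure_maxPt hdom hfin η.2⟩

theorem mem_compOpen_iff (η : MaxPt Y) (y : Y) : y ∈ compOpen hdom hfin η ↔ η.1 ⤳ y :=
  specializes_iff_mem_closure.symm

theorem self_mem_compOpen (η : MaxPt Y) : η.1 ∈ compOpen hdom hfin η :=
  (mem_compOpen_iff hdom hfin η η.1).mpr specializes_rfl

theorem exists_mem_compOpen (y : Y) : ∃ η : MaxPt Y, y ∈ compOpen hdom hfin η := by
  obtain ⟨η, hη, hηc⟩ := Groth.Agent.H17.exists_generic_irreducibleComponent y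
  exact ⟨⟨η, fun z hz => Groth.Agent.H17.eq_of_specializes_of_mem_irreducibleComponents hηc hz⟩,
    (mem_compOpen_iff hdom hfin _ y).mpr hη⟩

theorem eq_of_mem_compOpen {η η' : MaxPt Y} {y : Y} (h : y ∈ compOpen hdom hfin η)
    (h' : y ∈ compOpen hdom hfin η') : η = η' := by
  haveI := hdom y
  exact Subtype.ext (maxPt_unique y η.2 η'.2 ((mem_compOpen_iff hdom hfin η y).mp h)
    ((mem_compOpen_iff hdom hfin η' y).mp h'))

include hfin in
/-- A quasi-compact open contains finitely many maximal points. -/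
theorem finite_maxPt_mem (V : Y.Opens) (hV : IsCompact (V : Set Y)) :
    Finite {η : MaxPt Y // η.1 ∈ V} := by
  have hF := hfin.finite_nonempty_inter_compact hV
  haveI : Finite {Z : ↥(irreducibleComponents ↥Y) // ((Z : Set Y) ∩ (V : Set Y)).Nonempty} :=
    hF.to_subtype
  let g : {η : MaxPt Y // η.1 ∈ V} →
      {Z : ↥(irreducibleComponents ↥Y) // ((Z : Set Y) ∩ (V : Set Y)).Nonempty} := fun η =>
    ⟨⟨closure {η.1.1}, closure_maxPt_mem_irreducibleComponents η.1.2⟩,
      ⟨η.1.1, subset_closure rfl, η.2⟩⟩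
  refine Finite.of_injective g ?_
  intro η η' h
  have h1 : closure ({η.1.1} : Set Y) = closure {η'.1.1} := congrArg (fun Z => (Z.1 : Set Y)) h
  have h2 : η.1.1 = η'.1.1 := by
    have e1 : IsGenericPoint η.1.1 (closure ({η.1.1} : Set Y)) := rfl
    have e2 : IsGenericPoint η'.1.1 (closure ({η.1.1} : Set Y)) := h1.symm
    exact e1.eq e2
  exact Subtype.ext (Subtype.ext h2)

/-- The piece of an open `V` in the component of `η`. -/
def piece (V : Y.Opens) (η : MaxPt Y) : Y.Opens := V ⊓ compOpen hdom hfin η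

theorem piece_le (V : Y.Opens) (η : MaxPt Y) : piece hdom hfin V η ≤ V := inf_le_left

theorem self_mem_piece (V : Y.Opens) (η : MaxPt Y) (hη : η.1 ∈ V) : η.1 ∈ piece hdom hfin V η :=
  ⟨hη, self_mem_compOpen hdom hfin η⟩

theorem specializes_of_mem_piece {V : Y.Opens} {η : MaxPt Y} {y : Y}
    (hy : y ∈ piece hdom hfin V η) : η.1 ⤳ y :=
  (mem_compOpen_iff hdom hfin η y).mp hy.2

/-- The pieces cover `V`. -/
theorem exists_mem_piece (V : Y.Opens) {y : Y} (hy : y ∈ V) :
    ∃ η : {η : MaxPt Y // η.1 ∈ V}, y ∈ piece hdom hfin V η.1 := by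
  obtain ⟨η, hη⟩ := exists_mem_compOpen hdom hfin y
  have hηV : η.1 ∈ V := ((mem_compOpen_iff hdom hfin η y).mp hη).mem_open V.2 hy
  exact ⟨⟨η, hηV⟩, hy, hη⟩

theorem eq_of_mem_piece {V : Y.Opens} {η η' : MaxPt Y} {y : Y} (h : y ∈ piece hdom hfin V η)
    (h' : y ∈ piece hdom hfin V η') : η = η' :=
  eq_of_mem_compOpen hdom hfin h.2 h'.2

/-- Every maximal point in `V` is the distinguished point of its piece. -/
theorem maxPt_mem_piece_iff {V : Y.Opens} (η η' : MaxPt Y) :
    η'.1 ∈ piece hdom hfin V η → η' = η := by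
  intro h
  exact Subtype.ext (η'.2 η.1 (specializes_of_mem_piece hdom hfin h)).symm

end data

end Groth.Agent.H68.NormNormal
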