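import Mathlib
import Groth.Agent.H66.PiLoc
import Groth.Agent.H38.TotalFrac2

/-!
# Integral closure in a finite product of (normal) domains

Let `α : A → B` be a ring map, `φ : R → B` an injective ring map whose image is the set of elements
of `B` integral over `A`, and `ρ i : B → T i` a finite family of ring maps to domains inducing a
bijection `B → Π i, T i`.  Then the kernels of `ρ i ∘ φ` are exactly the minimal primes of `R`, and
if the `T i` are integrally closed, all localizations of `R` at primes are integrally closed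
domains.
-/

set_option autoImplicit false
set_option linter.style.haveILetI false
universe u

open Polynomial

namespace Groth.Agent.H68.NormNormal

variable {A B R : Type u} [CommRing A] [CommRing B] [CommRing R]
  (α : A →+* B) (φ : R →+* B)
  {ι : Type u} [Finite ι] {T : ι → Type u} [∀ i, CommRing (T i)]
  (ρ : ∀ i, B →+* T i)

/-- The standing hypotheses. -/
structure Hyp : Prop where
  inj : Function.Injective φ
  range : ∀ b : B, b ∈ Set.range φ ↔ α.IsIntegralElem b
  bij : Function.Bijective (fun (b : B) (i : ι) => ρ i b)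

variable {α φ ρ}

namespace Hyp

variable (H : Hyp α φ ρ)
include H

omit [Finite ι] in
theorem ext_of_forall {b b' : B} (h : ∀ i, ρ i b = ρ i b') : b = b' :=
  H.bij.1 (funext h)

omit [Finite ι] in
theorem exists_idem (i : ι) : ∃ ε : R, ρ i (φ ε) = 1 ∧ ∀ j, j ≠ i → ρ j (φ ε) = 0 := by
  classical
  obtain ⟨e, he⟩ := H.bij.2 (fun j => if j = i then 1 else 0)
  have he' : ∀ j, ρ j e = if j = i then 1 else 0 := fun j => congrFun he j
  have hint : α.IsIntegralElem e := by
    refine ⟨X * (X - C 1), monic_X.mul (monic_X_sub_C 1), ?_⟩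
    rw [eval₂_mul, eval₂_sub, eval₂_X, eval₂_C, map_one]
    apply H.ext_of_forall
    intro j
    rw [map_mul, map_sub, map_one, he', map_zero]
    split_ifs <;> simp
  obtain ⟨ε, rfl⟩ := (H.range e).mpr hint
  exact ⟨ε, by rw [he', if_pos rfl], fun j hj => by rw [he', if_neg hj]⟩

omit [Finite ι] in
theorem mul_idem_eq_zero {i : ι} {ε : R} (hε : ρ i (φ ε) = 1 ∧ ∀ j, j ≠ i → ρ j (φ ε) = 0) {r : R}
    (hr : r ∈ RingHom.ker ((ρ i).comp φ)) : r * ε = 0 := by
  apply H.inj
  rw [map_zero]
  apply H.ext_of_forall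
  intro j
  rw [map_mul, map_mul, map_zero]
  by_cases h : j = i
  · subst h
    rw [hε.1, mul_one]
    exact hr
  · rw [hε.2 j h, mul_zero]

omit [Finite ι] H in
theorem idem_notMem_ker [∀ i, Nontrivial (T i)] {i : ι} {ε : R}
    (hε : ρ i (φ ε) = 1 ∧ ∀ j, j ≠ i → ρ j (φ ε) = 0) : ε ∉ RingHom.ker ((ρ i).comp φ) := by
  intro h
  have h1 : ρ i (φ ε) = 0 := h
  rw [hε.1] at h1
  exact one_ne_zero h1

omit [Finite ι] H in
theorem ker_isPrime [∀ i, IsDomain (T i)] (i : ι) : (RingHom.ker ((ρ i).comp φ)).IsPrime :=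
  RingHom.ker_isPrime _

/-- Every prime of `R` contains one of the kernels. -/
theorem exists_ker_le (Q : Ideal R) [hQ : Q.IsPrime] : ∃ i, RingHom.ker ((ρ i).comp φ) ≤ Q := by
  classical
  haveI := Fintype.ofFinite ι
  choose ε hε using H.exists_idem
  have hsum : ∑ i, ε i = 1 := by
    apply H.inj
    apply H.ext_of_forall
    intro j
    rw [map_sum, map_sum, map_one, map_one]
    rw [Finset.sum_eq_single j (fun i _ hij => (hε i).2 j (Ne.symm hij))
      (fun h => absurd (Finset.mem_univ j) h), (hε j).1]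
  have hex : ∃ i, ε i ∉ Q := by
    by_contra hcon
    push Not at hcon
    apply hQ.ne_top
    rw [Ideal.eq_top_iff_one, ← hsum]
    exact Q.sum_mem fun i _ => hcon i
  obtain ⟨i, hi⟩ := hex
  refine ⟨i, fun r hr => ?_⟩
  have h0 : r * ε i ∈ Q := by
    rw [H.mul_idem_eq_zero (hε i) hr]
    exact Q.zero_mem
  exact (hQ.mem_or_mem h0).resolve_right hi

omit [Finite ι] in
/-- The kernels are minimal primes. -/
theorem eq_ker_of_le [∀ i, Nontrivial (T i)] (Q : Ideal R) [hQ : Q.IsPrime] (i : ι)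
    (h : Q ≤ RingHom.ker ((ρ i).comp φ)) : Q = RingHom.ker ((ρ i).comp φ) := by
  obtain ⟨ε, hε⟩ := H.exists_idem i
  refine le_antisymm h fun r hr => ?_
  have h0 : r * ε ∈ Q := by
    rw [H.mul_idem_eq_zero hε hr]
    exact Q.zero_mem
  exact (hQ.mem_or_mem h0).resolve_right fun hcon => idem_notMem_ker hε (h hcon)

omit [Finite ι] in
theorem ker_injective [∀ i, Nontrivial (T i)] {i j : ι}
    (h : RingHom.ker ((ρ i).comp φ) = RingHom.ker ((ρ j).comp φ)) : i = j := by
  by_contra hij
  obtain ⟨ε, hε⟩ := H.exists_idem j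
  have h1 : ε ∈ RingHom.ker ((ρ i).comp φ) := hε.2 i hij
  rw [h] at h1
  exact idem_notMem_ker hε h1

end Hyp

section normal

/-- The `A`-algebra structure on `T i`. -/
@[reducible] def algT (α : A →+* B) (ρ : ∀ i, B →+* T i) (i : ι) : Algebra A (T i) :=
  ((ρ i).comp α).toAlgebra

/-- The integral closure of `A` in `T i`, as a subring. -/
abbrev intSub (α : A →+* B) (ρ : ∀ i, B →+* T i) (i : ι) : Subring (T i) :=
  @Subalgebra.toSubring A (T i) _ _ (algT α ρ i) (@integralClosure A (T i) _ _ (algT α ρ i))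

/-- The integral closure of `A` in `T i`, as a type. -/
abbrev S (α : A →+* B) (ρ : ∀ i, B →+* T i) (i : ι) : Type u := ↥(intSub α ρ i)

omit [Finite ι] in
theorem mem_intSub_iff (α : A →+* B) (ρ : ∀ i, B →+* T i) (i : ι) (t : T i) :
    t ∈ intSub α ρ i ↔ ((ρ i).comp α).IsIntegralElem t := Iff.rfl

instance isIntegrallyClosed_S (α : A →+* B) (ρ : ∀ i, B →+* T i) (i : ι) [IsDomain (T i)]
    [IsIntegrallyClosed (T i)] : IsIntegrallyClosed (S α ρ i) := by
  have : IsIntegrallyClosedIn (S α ρ i) (T i) := inferInstance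
  exact IsIntegrallyClosed.of_isIntegrallyClosed_of_isIntegrallyClosedIn
    (R := S α ρ i) (S := T i)

end normal

namespace Hyp

variable (H : Hyp α φ ρ)
include H

omit [Finite ι] in
theorem isIntegralElem_comp (i : ι) (r : R) : ((ρ i).comp α).IsIntegralElem (ρ i (φ r)) := by
  obtain ⟨p, hp, hp0⟩ := (H.range (φ r)).mp ⟨r, rfl⟩
  refine ⟨p, hp, ?_⟩
  rw [← Polynomial.hom_eval₂, hp0, map_zero]

omit [Finite ι] in
/-- The comparison map `R → Π i, S i`. -/
theorem exists_toPi : ∃ Ψ : R →+* (∀ i, S α ρ i), ∀ r i, ((Ψ r i : S α ρ i) : T i) = ρ i (φ r) := by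
  have h : ∀ i, ∃ ψ : R →+* S α ρ i, ∀ r, ((ψ r : S α ρ i) : T i) = ρ i (φ r) := by
    intro i
    exact ⟨((ρ i).comp φ).codRestrict (intSub α ρ i)
      (fun r => H.isIntegralElem_comp i r), fun r => rfl⟩
  choose ψ hψ using h
  exact ⟨Pi.ringHom ψ, fun r i => hψ i r⟩

theorem toPi_bijective (Ψ : R →+* (∀ i, S α ρ i))
    (hΨ : ∀ r i, ((Ψ r i : S α ρ i) : T i) = ρ i (φ r)) : Function.Bijective Ψ := by
  classical
  haveI := Fintype.ofFinite ι
  constructor
  · intro r r' h
    apply H.inj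
    apply H.ext_of_forall
    intro i
    rw [← hΨ, ← hΨ, h]
  · intro s
    obtain ⟨b, hb⟩ := H.bij.2 (fun i => ((s i : S α ρ i) : T i))
    have hb' : ∀ i, ρ i b = ((s i : S α ρ i) : T i) := fun i => congrFun hb i
    have hp : ∀ i, ∃ p : A[X], p.Monic ∧ eval₂ ((ρ i).comp α) ((s i : S α ρ i) : T i) p = 0 :=
      fun i => (s i).2
    choose p hpm hp0 using hp
    have hint : α.IsIntegralElem b := by
      refine ⟨∏ i, p i, monic_prod_of_monic _ _ fun i _ => hpm i, ?_⟩
      apply H.ext_of_forall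
      intro j
      rw [map_zero, Polynomial.hom_eval₂, hb', eval₂_finsetProd]
      exact Finset.prod_eq_zero (Finset.mem_univ j) (hp0 j)
    obtain ⟨r, rfl⟩ := (H.range b).mpr hint
    refine ⟨r, funext fun i => ?_⟩
    apply Subtype.ext
    rw [hΨ, hb']

/-- All localizations of `R` at primes are integrally closed domains. -/
theorem normal_localization [∀ i, IsDomain (T i)] [∀ i, IsIntegrallyClosed (T i)]
    (P : Ideal R) [hP : P.IsPrime] :
    IsDomain (Localization.AtPrime P) ∧ IsIntegrallyClosed (Localization.AtPrime P) := by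
  obtain ⟨Ψ, hΨ⟩ := H.exists_toPi
  let e : R ≃+* (∀ i, S α ρ i) := RingEquiv.ofBijective Ψ (H.toPi_bijective Ψ hΨ)
  exact Groth.Agent.H38.localization_isDomain_isIntegrallyClosed_of_equiv e
    (fun P' => ⟨Groth.Agent.H66.isDomain_localization_pi P'.asIdeal,
      Groth.Agent.H66.isIntegrallyClosed_localization_pi P'.asIdeal⟩) ⟨P, hP⟩

end Hyp

end Groth.Agent.H68.NormNormal
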