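import Mathlib
import Groth.Agent.H87.NormExt
import Groth.Agent.H68.NormNormal.Comp

/-!
# Sections over the pieces of an open of a normal scheme
-/

set_option autoImplicit false
set_option linter.style.haveILetI false
universe u

open CategoryTheory AlgebraicGeometry Topology TopologicalSpace Opposite

namespace Groth.Agent.H68.NormNormal

/-- The ring of global sections of an integral scheme with integrally closed local rings is
integrally closed. -/
theorem isIntegrallyClosed_top (Z : Scheme.{u}) [IsIntegral Z]
    (hZ : ∀ z : Z, IsIntegrallyClosed (Z.presheaf.stalk z)) : IsIntegrallyClosed Γ(Z, ⊤) := by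
  set η := genericPoint Z with hη
  letI : Algebra Γ(Z, ⊤) Z.functionField := (Z.presheaf.germ ⊤ η trivial).hom.toAlgebra
  have hinj : Function.Injective (algebraMap Γ(Z, ⊤) Z.functionField) :=
    germ_injective_of_isIntegral Z η (U := ⊤) trivial
  haveI : FaithfulSMul Γ(Z, ⊤) Z.functionField :=
    (faithfulSMul_iff_algebraMap_injective _ _).mpr hinj
  haveI : IsIntegrallyClosedIn Γ(Z, ⊤) Z.functionField := by
    rw [isIntegrallyClosedIn_iff]
    refine ⟨hinj, fun {β} hβ => ?_⟩
    obtain ⟨p, hpm, hp⟩ := hβ
    obtain ⟨U, hU, b, hb⟩ := Z.presheaf.exists_germ_eq β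
    have hint : (Z.presheaf.map (homOfLE le_top : U ⟶ ⊤).op).hom.IsIntegralElem b := by
      refine ⟨p, hpm, ?_⟩
      apply germ_injective_of_isIntegral Z η hU
      rw [map_zero]
      have h1 : (Z.presheaf.germ U η hU).hom.comp (Z.presheaf.map (homOfLE le_top : U ⟶ ⊤).op).hom =
          algebraMap Γ(Z, ⊤) Z.functionField := by
        rw [RingHom.algebraMap_toAlgebra, ← CommRingCat.hom_comp, Z.presheaf.germ_res]
      have h2 := Polynomial.hom_eval₂ p (Z.presheaf.map (homOfLE le_top : U ⟶ ⊤).op).hom
        (Z.presheaf.germ U η hU).hom b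
      rw [h1] at h2
      change (Z.presheaf.germ U η hU).hom _ = 0
      rw [h2]
      change Polynomial.eval₂ _ (Z.presheaf.germ U η hU b) p = 0
      rw [hb]
      exact hp
    obtain ⟨g, hg⟩ := Groth.Agent.H87.NormExt.extend Z hZ U b hint
    refine ⟨g, ?_⟩
    rw [← hb, ← hg, RingHom.algebraMap_toAlgebra]
    exact (Z.presheaf.germ_res_apply (homOfLE le_top : U ⟶ ⊤) η hU g).symm
  exact IsIntegrallyClosed.of_isIntegrallyClosedIn Γ(Z, ⊤) Z.functionField

section generic

variable {Y : Scheme.{u}}
  (hnorm : ∀ y : Y, IsDomain (Y.presheaf.stalk y) ∧ IsIntegrallyClosed (Y.presheaf.stalk y))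
  (P : Y.Opens) (η : Y) (hη : η ∈ P) (hgen : ∀ y ∈ P, η ⤳ y)

include hnorm in
theorem isReduced_of_normal : IsReduced Y := by
  haveI : ∀ y : Y, _root_.IsReduced (Y.presheaf.stalk y) := fun y => by
    haveI := (hnorm y).1
    infer_instance
  exact isReduced_of_isReduced_stalk Y

include hη hgen in
theorem irreducibleSpace_of_generic : IrreducibleSpace ↥P := by
  rw [irreducibleSpace_def]
  have h : (Set.univ : Set ↥P) = closure {(⟨η, hη⟩ : ↥P)} := by
    symm
    rw [Set.eq_univ_iff_forall]
    rintro ⟨y, hy⟩
    rw [← specializes_iff_mem_closure]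
    exact Topology.IsInducing.subtypeVal.specializes_iff.mp (hgen y hy)
  change IsIrreducible (Set.univ : Set ↥P)
  rw [h]
  exact isIrreducible_singleton.closure

include hnorm hη hgen in
theorem isIntegral_of_generic : IsIntegral (P : Scheme.{u}) := by
  haveI := isReduced_of_normal hnorm
  haveI : IsReduced (P : Scheme.{u}) := isReduced_of_isOpenImmersion P.ι
  haveI : IrreducibleSpace ↥(P : Scheme.{u}) := irreducibleSpace_of_generic P η hη hgen
  exact isIntegral_of_irreducibleSpace_of_isReduced _

include hnorm hη hgen in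
theorem isDomain_sections : IsDomain Γ(Y, P) := by
  haveI := isIntegral_of_generic hnorm P η hη hgen
  exact (P.topIso.commRingCatIsoToRingEquiv).symm.toMulEquiv.isDomain _

include hnorm hη hgen in
theorem isIntegrallyClosed_sections : IsIntegrallyClosed Γ(Y, P) := by
  haveI := isIntegral_of_generic hnorm P η hη hgen
  have hst : ∀ z : (P : Scheme.{u}), IsIntegrallyClosed ((P : Scheme.{u}).presheaf.stalk z) := by
    intro z
    haveI := (hnorm z.1).2
    exact IsIntegrallyClosed.of_equiv (P.stalkIso z).commRingCatIsoToRingEquiv.symm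
  haveI := isIntegrallyClosed_top (P : Scheme.{u}) hst
  exact IsIntegrallyClosed.of_equiv P.topIso.commRingCatIsoToRingEquiv

include hnorm hgen in
theorem section_eq_zero_iff (s : Γ(Y, P)) : s = 0 ↔ η ∉ Y.basicOpen s := by
  haveI := isReduced_of_normal hnorm
  constructor
  · rintro rfl
    rw [Scheme.basicOpen_zero]
    exact fun h => h
  · intro h
    rw [← basicOpen_eq_bot_iff, eq_bot_iff]
    intro y hy
    exact absurd ((hgen y (Y.basicOpen_le s hy)).mem_open (Y.basicOpen s).2 hy) h

end generic

section gluing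

variable {Y : Scheme.{u}} (V : Y.Opens) {ι : Type u} (P : ι → Y.Opens) (hle : ∀ i, P i ≤ V)
  (hcov : ∀ y ∈ V, ∃ i, y ∈ P i) (hdisj : ∀ i j (y : Y), y ∈ P i → y ∈ P j → i = j)

include hcov hdisj in
/-- Sections over a disjoint union of opens are families of sections. -/
theorem pi_res_bijective :
    Function.Bijective (fun (b : Γ(Y, V)) (i : ι) =>
      (Y.presheaf.map (homOfLE (hle i)).op).hom b) := by
  have hcover : V ≤ iSup P := fun y hy => by
    obtain ⟨i, hi⟩ := hcov y hy
    exact Opens.mem_iSup.mpr ⟨i, hi⟩
  constructor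
  · intro b b' h
    refine Y.sheaf.eq_of_locally_eq' P V (fun i => homOfLE (hle i)) hcover b b' fun i => ?_
    exact congrFun h i
  · intro s
    have hcompat : TopCat.Presheaf.IsCompatible Y.presheaf P s := by
      intro i j
      by_cases hij : i = j
      · subst hij
        rfl
      · have hbot : P i ⊓ P j = ⊥ := by
          rw [eq_bot_iff]
          rintro y ⟨hyi, hyj⟩
          exact absurd (hdisj i j y hyi hyj) hij
        have hsub : ∀ (W : Y.Opens), W = ⊥ → Subsingleton Γ(Y, W) := by
          rintro W rfl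
          infer_instance
        haveI := hsub _ hbot
        exact Subsingleton.elim _ _
    obtain ⟨g, hg, -⟩ := Y.sheaf.existsUnique_gluing' P V (fun i => homOfLE (hle i)) hcover s hcompat
    exact ⟨g, funext fun i => hg i⟩

end gluing

end Groth.Agent.H68.NormNormal
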