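import Mathlib
import Groth.Prelude.Def_Pi1
import Groth.Agent.H68.NormNormal.Ring
import Groth.Agent.H68.NormNormal.Sections

/-!
# The normalization of a scheme in a normal scheme with locally finite irreducible components
-/

set_option autoImplicit false
set_option linter.style.haveILetI false
set_option linter.unusedSectionVars false
universe u

open CategoryTheory AlgebraicGeometry Topology TopologicalSpace Opposite

namespace Groth.Agent.H68.NormNormal

variable {X Y : Scheme.{u}} (f : Y ⟶ X) [QuasiCompact f] [QuasiSeparated f]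
  (hY : Pi1.IsNormalScheme Y)
  (hfin : LocallyFinite (fun Z : ↥(irreducibleComponents ↥Y) => (Z : Set ↥Y)))
  (U : X.Opens) (hU : IsAffineOpen U)

/-- The index set: maximal points of `Y` lying over `U`. -/
abbrev Idx : Type u := {η : MaxPt Y // η.1 ∈ f ⁻¹ᵁ U}

include hfin hU in
theorem finite_idx : Finite (Idx f U) :=
  finite_maxPt_mem hfin (f ⁻¹ᵁ U) (f.isCompact_preimage hU.isCompact)

/-- The pieces of `f⁻¹U`. -/
abbrev pc (η : Idx f U) : Y.Opens := piece (fun y => (hY y).1) hfin (f ⁻¹ᵁ U) η.1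

theorem pc_le (η : Idx f U) : pc f hY hfin U η ≤ f ⁻¹ᵁ U := piece_le _ _ _ _

theorem isDomain_pc (η : Idx f U) : IsDomain Γ(Y, pc f hY hfin U η) :=
  isDomain_sections hY _ η.1.1 (self_mem_piece _ _ _ _ η.2)
    (fun _ hy => specializes_of_mem_piece _ _ hy)

theorem isIntegrallyClosed_pc (η : Idx f U) : IsIntegrallyClosed Γ(Y, pc f hY hfin U η) :=
  isIntegrallyClosed_sections hY _ η.1.1 (self_mem_piece _ _ _ _ η.2)
    (fun _ hy => specializes_of_mem_piece _ _ hy)

/-- The restriction maps to the pieces. -/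
noncomputable abbrev rho (η : Idx f U) : Γ(Y, f ⁻¹ᵁ U) →+* Γ(Y, pc f hY hfin U η) :=
  (Y.presheaf.map (homOfLE (pc_le f hY hfin U η)).op).hom

theorem le_preimage : f ⁻¹ᵁ U ≤ f.toNormalization ⁻¹ᵁ (f.fromNormalization ⁻¹ᵁ U) := by
  rw [← Scheme.Hom.comp_preimage, Scheme.Hom.toNormalization_fromNormalization]

/-- The map `Γ(N, ν⁻¹U) → Γ(Y, f⁻¹U)`. -/
noncomputable abbrev phi : Γ(f.normalization, f.fromNormalization ⁻¹ᵁ U) →+* Γ(Y, f ⁻¹ᵁ U) :=
  (f.toNormalization.appLE (f.fromNormalization ⁻¹ᵁ U) (f ⁻¹ᵁ U) (le_preimage f U)).hom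

include hU in
theorem hyp : Hyp (f.app U).hom (phi f U) (rho f hY hfin U) := by
  letI := (f.app U).hom.toAlgebra
  have hval := f.normalizationObjIso_hom_val hU
  have hφ : ∀ r, phi f U r =
      ((f.normalizationObjIso hU).hom r : integralClosure Γ(X, U) Γ(Y, f ⁻¹ᵁ U)).1 := by
    intro r
    have := congrArg (fun g => g.hom r) hval
    exact this.symm
  have hbij : Function.Bijective (f.normalizationObjIso hU).hom :=
    ConcreteCategory.bijective_of_isIso _
  refine ⟨?_, ?_, ?_⟩
  · intro r r' h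
    rw [hφ, hφ] at h
    exact hbij.1 (Subtype.ext h)
  · intro b
    constructor
    · rintro ⟨r, rfl⟩
      rw [hφ]
      exact ((f.normalizationObjIso hU).hom r).2
    · intro hb
      obtain ⟨r, hr⟩ := hbij.2 ⟨b, hb⟩
      exact ⟨r, by rw [hφ, hr]⟩
  · exact pi_res_bijective (f ⁻¹ᵁ U) (fun η : Idx f U => pc f hY hfin U η)
      (fun η => pc_le f hY hfin U η)
      (fun y hy => exists_mem_piece _ _ _ hy)
      (fun η η' y h h' => Subtype.ext (eq_of_mem_piece _ _ h h'))

theorem mem_primeIdealOf_iff {N : Scheme.{u}} {W : N.Opens} (hW : IsAffineOpen W) (x : N)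
    (hx : x ∈ W) (r : Γ(N, W)) :
    r ∈ (hW.primeIdealOf ⟨x, hx⟩).asIdeal ↔ x ∉ N.basicOpen r := by
  rw [hW.primeIdealOf_eq_map_closedPoint]
  change (N.presheaf.germ W x hx).hom r ∈ IsLocalRing.maximalIdeal _ ↔ _
  rw [IsLocalRing.mem_maximalIdeal, mem_nonunits_iff, Scheme.mem_basicOpen _ _ _ hx]

theorem mem_ker_iff (η : Idx f U) (r : Γ(f.normalization, f.fromNormalization ⁻¹ᵁ U)) :
    r ∈ RingHom.ker ((rho f hY hfin U η).comp (phi f U)) ↔
      f.toNormalization η.1.1 ∉ f.normalization.basicOpen r := by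
  rw [RingHom.mem_ker, RingHom.comp_apply,
    section_eq_zero_iff hY (pc f hY hfin U η) η.1.1 (fun y hy => specializes_of_mem_piece _ _ hy),
    not_iff_not]
  change η.1.1 ∈ Y.basicOpen (Y.presheaf.map _ (f.toNormalization.appLE _ _ _ r)) ↔ _
  rw [Scheme.basicOpen_res, Scheme.basicOpen_appLE]
  constructor
  · rintro ⟨-, -, h⟩
    exact h
  · intro h
    exact ⟨self_mem_piece _ _ _ _ η.2, η.2, h⟩

include hU in
theorem isAffineOpen_preimage : IsAffineOpen (f.fromNormalization ⁻¹ᵁ U) :=
  hU.preimage f.fromNormalization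

theorem toNormalization_mem (η : Idx f U) :
    f.toNormalization η.1.1 ∈ f.fromNormalization ⁻¹ᵁ U := le_preimage f U η.2

include hU in
theorem primeIdealOf_toNormalization (η : Idx f U) :
    ((isAffineOpen_preimage f U hU).primeIdealOf
      ⟨f.toNormalization η.1.1, toNormalization_mem f U η⟩).asIdeal =
      RingHom.ker ((rho f hY hfin U η).comp (phi f U)) := by
  ext r
  rw [mem_primeIdealOf_iff, mem_ker_iff]

include hY hfin hU in
/-- The local rings of the normalization at points over `U` are normal domains. -/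
theorem normal_stalk_of_mem (x' : f.normalization) (hx' : x' ∈ f.fromNormalization ⁻¹ᵁ U) :
    IsDomain (f.normalization.presheaf.stalk x') ∧
      IsIntegrallyClosed (f.normalization.presheaf.stalk x') := by
  haveI := finite_idx f hfin U hU
  haveI : ∀ η : Idx f U, IsDomain Γ(Y, pc f hY hfin U η) := isDomain_pc f hY hfin U
  haveI : ∀ η : Idx f U, IsIntegrallyClosed Γ(Y, pc f hY hfin U η) :=
    isIntegrallyClosed_pc f hY hfin U
  have hW := isAffineOpen_preimage f U hU
  set P := (hW.primeIdealOf ⟨x', hx'⟩).asIdeal with hP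
  haveI : P.IsPrime := (hW.primeIdealOf ⟨x', hx'⟩).isPrime
  obtain ⟨h1, h2⟩ := (hyp f hY hfin U hU).normal_localization P
  letI := f.normalization.presheaf.algebra_section_stalk ⟨x', hx'⟩
  haveI : IsLocalization.AtPrime (f.normalization.presheaf.stalk x') P :=
    hW.isLocalization_stalk ⟨x', hx'⟩
  let e := IsLocalization.algEquiv P.primeCompl (Localization.AtPrime P)
    (f.normalization.presheaf.stalk x')
  exact ⟨e.symm.toRingEquiv.toMulEquiv.isDomain _, IsIntegrallyClosed.of_equiv e.toRingEquiv⟩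

include hY hfin hU in
/-- The image of a maximal point of `Y` is a maximal point of the normalization. -/
theorem toNormalization_maxPt (η : Idx f U) (z : f.normalization)
    (hz : z ⤳ f.toNormalization η.1.1) : z = f.toNormalization η.1.1 := by
  haveI := finite_idx f hfin U hU
  haveI : ∀ η : Idx f U, IsDomain Γ(Y, pc f hY hfin U η) := isDomain_pc f hY hfin U
  have hW := isAffineOpen_preimage f U hU
  have ht := toNormalization_mem f U η
  have hzW : z ∈ f.fromNormalization ⁻¹ᵁ U := hz.mem_open (f.fromNormalization ⁻¹ᵁ U).2 ht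
  have hle : (hW.primeIdealOf ⟨z, hzW⟩).asIdeal ≤
      RingHom.ker ((rho f hY hfin U η).comp (phi f U)) := by
    rw [← primeIdealOf_toNormalization f hY hfin U hU η]
    intro r hr
    rw [mem_primeIdealOf_iff] at hr ⊢
    exact fun h => hr (hz.mem_open (f.normalization.basicOpen r).2 h)
  haveI := (hW.primeIdealOf ⟨z, hzW⟩).isPrime
  have heq := (hyp f hY hfin U hU).eq_ker_of_le _ η hle
  rw [← primeIdealOf_toNormalization f hY hfin U hU η] at heq
  have h2 : hW.primeIdealOf ⟨z, hzW⟩ = hW.primeIdealOf ⟨f.toNormalization η.1.1, ht⟩ :=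
    PrimeSpectrum.ext heq
  have e1 := hW.fromSpec_primeIdealOf ⟨z, hzW⟩
  have e2 := hW.fromSpec_primeIdealOf ⟨f.toNormalization η.1.1, ht⟩
  rw [h2] at e1
  exact e1.symm.trans e2

include hY hfin hU in
/-- Every maximal point of the normalization over `U` is the image of a maximal point of `Y`. -/
theorem exists_idx_of_maxPt (t : f.normalization) (ht : t ∈ f.fromNormalization ⁻¹ᵁ U)
    (hmax : ∀ z : f.normalization, z ⤳ t → z = t) :
    ∃ η : Idx f U, f.toNormalization η.1.1 = t := by
  haveI := finite_idx f hfin U hU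
  have hW := isAffineOpen_preimage f U hU
  haveI := (hW.primeIdealOf ⟨t, ht⟩).isPrime
  obtain ⟨η, hη⟩ := (hyp f hY hfin U hU).exists_ker_le (hW.primeIdealOf ⟨t, ht⟩).asIdeal
  refine ⟨η, hmax _ ?_⟩
  rw [specializes_iff_forall_open]
  intro O hO htO
  obtain ⟨r, hr1, hr2⟩ := hW.exists_basicOpen_le (V := ⟨O, hO⟩) ⟨t, htO⟩ ht
  apply hr1
  by_contra hcon
  have h1 : r ∈ RingHom.ker ((rho f hY hfin U η).comp (phi f U)) :=
    (mem_ker_iff f hY hfin U η r).mpr hcon
  exact (mem_primeIdealOf_iff hW t ht r).mp (hη h1) hr2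

include hY hfin hU in
theorem idx_unique (η η' : Idx f U) (h : f.toNormalization η.1.1 = f.toNormalization η'.1.1) :
    η = η' := by
  haveI : ∀ η : Idx f U, IsDomain Γ(Y, pc f hY hfin U η) := isDomain_pc f hY hfin U
  apply (hyp f hY hfin U hU).ker_injective
  ext r
  rw [mem_ker_iff, mem_ker_iff, h]

include hY hfin hU in
/-- Only finitely many irreducible components of the normalization meet the preimage of `U`. -/
theorem finite_components_inter :
    {T : ↥(irreducibleComponents ↥f.normalization) |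
      ((T : Set f.normalization) ∩
        ((f.fromNormalization ⁻¹ᵁ U : f.normalization.Opens) : Set f.normalization)).Nonempty}.Finite := by
  haveI := finite_idx f hfin U hU
  let g : Idx f U → ↥(irreducibleComponents ↥f.normalization) := fun η =>
    ⟨closure {f.toNormalization η.1.1},
      closure_maxPt_mem_irreducibleComponents (toNormalization_maxPt f hY hfin U hU η)⟩
  refine (Set.finite_range g).subset ?_
  rintro ⟨T, hT⟩ ⟨w, hwT, hwW⟩
  obtain ⟨t, ht, rfl⟩ := exists_maxPt_of_mem_irreducibleComponents hT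
  have htw : t ⤳ w := specializes_iff_mem_closure.mpr hwT
  have htW : t ∈ f.fromNormalization ⁻¹ᵁ U := htw.mem_open (f.fromNormalization ⁻¹ᵁ U).2 hwW
  obtain ⟨η, hη⟩ := exists_idx_of_maxPt f hY hfin U hU t htW ht
  exact ⟨η, Subtype.ext (by simp only [g, hη])⟩

omit U in
include hY hfin in
/-- **Main theorem** on the normalization of `X` in a normal scheme `Y` with locally finite
irreducible components. -/
theorem main :
    Pi1.IsNormalScheme f.normalization ∧
    LocallyFinite (fun Z : ↥(irreducibleComponents ↥f.normalization) =>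
      (Z : Set ↥f.normalization)) ∧
    (∀ y : Y, closure {y} ∈ irreducibleComponents ↥Y →
      closure {f.toNormalization.base y} ∈ irreducibleComponents ↥f.normalization) ∧
    (∀ x' : ↥f.normalization, closure {x'} ∈ irreducibleComponents ↥f.normalization →
      ∃! y : Y, closure {y} ∈ irreducibleComponents ↥Y ∧ f.toNormalization.base y = x') := by
  -- affine neighbourhoods in `X`
  have haff : ∀ x : X, ∃ U : X.Opens, IsAffineOpen U ∧ x ∈ U := by
    intro x
    obtain ⟨U, hU, hxU, -⟩ := (X.isBasis_affineOpens).exists_subset_of_mem_open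
      (Set.mem_univ x) isOpen_univ
    obtain ⟨V, hV, rfl⟩ := hU
    exact ⟨V, hV, hxU⟩
  have hmaxY : ∀ y : Y, closure {y} ∈ irreducibleComponents ↥Y → ∀ z : Y, z ⤳ y → z = y :=
    fun y hy z hz => Groth.Agent.H17.eq_of_specializes_of_mem_irreducibleComponents hy hz
  have hmaxN : ∀ x' : f.normalization, closure {x'} ∈ irreducibleComponents ↥f.normalization →
      ∀ z : f.normalization, z ⤳ x' → z = x' :=
    fun y hy z hz => Groth.Agent.H17.eq_of_specializes_of_mem_irreducibleComponents hy hz
  refine ⟨?_, ?_, ?_, ?_⟩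
  · intro x'
    obtain ⟨U, hU, hxU⟩ := haff (f.fromNormalization x')
    exact normal_stalk_of_mem f hY hfin U hU x' hxU
  · intro x'
    obtain ⟨U, hU, hxU⟩ := haff (f.fromNormalization x')
    exact ⟨_, (f.fromNormalization ⁻¹ᵁ U).2.mem_nhds hxU, finite_components_inter f hY hfin U hU⟩
  · intro y hy
    obtain ⟨U, hU, hxU⟩ := haff (f y)
    exact closure_maxPt_mem_irreducibleComponents
      (toNormalization_maxPt f hY hfin U hU ⟨⟨y, hmaxY y hy⟩, hxU⟩)
  · intro x' hx'
    obtain ⟨U, hU, hxU⟩ := haff (f.fromNormalization x')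
    obtain ⟨η, hη⟩ := exists_idx_of_maxPt f hY hfin U hU x' hxU (hmaxN x' hx')
    refine ⟨η.1.1, ⟨closure_maxPt_mem_irreducibleComponents η.1.2, hη⟩, ?_⟩
    rintro y ⟨hy, hyx⟩
    have hyU : y ∈ f ⁻¹ᵁ U := by
      change f y ∈ U
      have : f y = f.fromNormalization (f.toNormalization y) := by
        rw [← Scheme.Hom.comp_apply, Scheme.Hom.toNormalization_fromNormalization]
      rw [this]
      change f.fromNormalization (f.toNormalization.base y) ∈ U
      rw [hyx]
      exact hxU
    have := idx_unique f hY hfin U hU ⟨⟨y, hmaxY y hy⟩, hyU⟩ η (hyx.trans hη.symm)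
    exact congrArg (fun e : Idx f U => e.1.1) this

end Groth.Agent.H68.NormNormal
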